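import Cfsg.Agent.H624.Sl.Defs
import Cfsg.Agent.S0188

/-!
# S4536, W3: `Nz` and block induction from the centralizer of a `p`-element

`nz_step`.  Ingredients: `ot` (outer products of elements of group algebras), `coeff_idem_prodBlk` (the
idempotent of the outer product of two blocks), `isTw_comm` (equivariant elements commute).
-/

set_option autoImplicit false
set_option linter.unusedSectionVars false

open Cfsg

namespace Cfsg.Agent.H466.Sl

open Cfsg.Agent.H644 Cfsg.Agent.Blocks.Local Cfsg.Agent.H648.Dict Cfsg.Agent.H624.Sl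
open Cfsg.Agent.Characters.Core

section Basic

variable {G : Type*} [Group G] {p : ℕ} {M : Ideal AlgInt} [M.IsPrime]

theorem mem_ring {ζ : G →* ℂˣ} (hζ : PPrime p ζ) (h : G) : MemLocalRing M (ζ h : ℂ) := by
  obtain ⟨k, hk, -, h1⟩ := hζ
  refine memLocalRing_of_isIntegral (IsIntegral.of_pow hk ?_)
  have h2 : ((ζ h : ℂˣ) : ℂ) ^ k = 1 := by
    rw [← Units.val_pow_eq_pow_val, h1 h, Units.val_one]
  rw [h2]
  exact isIntegral_one

theorem redC_map_mul {ζ : G →* ℂˣ} (hζ : PPrime p ζ) (a b : G) :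
    redC M (ζ (a * b) : ℂ) = redC M (ζ a : ℂ) * redC M (ζ b : ℂ) := by
  rw [map_mul, Units.val_mul, redC_mul (mem_ring hζ a) (mem_ring hζ b)]

theorem redC_ne_zero {ζ : G →* ℂˣ} (hζ : PPrime p ζ) (a : G) : redC M (ζ a : ℂ) ≠ 0 := by
  intro h
  have h1 := redC_map_mul (M := M) hζ a a⁻¹
  rw [mul_inv_cancel, map_one, Units.val_one, redC_one, h, zero_mul] at h1
  exact one_ne_zero h1

/-- Roots of unity of order prime to `p` reducing to one are one. -/
theorem eq_one_of_redC (hM : IsPModular p M) {ζ : G →* ℂˣ} (hζ : PPrime p ζ) {h : G}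
    (h1 : redC M (ζ h : ℂ) = 1) : ζ h = 1 := by
  have hr := mem_ring (M := M) hζ h
  obtain ⟨k, hk, hpk, h2⟩ := hζ
  by_contra hne
  have h3 : ((ζ h : ℂˣ) : ℂ) ^ k = 1 := by
    rw [← Units.val_pow_eq_pow_val, h2 h, Units.val_one]
  have h4 : ((ζ h : ℂˣ) : ℂ) - 1 ≠ 0 := by
    intro h5
    apply hne
    apply Units.ext
    rw [Units.val_one]
    exact sub_eq_zero.1 h5
  have h5 : (∑ i ∈ Finset.range k, ((ζ h : ℂˣ) : ℂ) ^ i) = 0 := by
    have h6 := geom_sum_mul ((ζ h : ℂˣ) : ℂ) k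
    rw [h3, sub_self] at h6
    exact (mul_eq_zero.1 h6).resolve_right h4
  have h6 : redC M (∑ i ∈ Finset.range k, ((ζ h : ℂˣ) : ℂ) ^ i) =
      ∑ i ∈ Finset.range k, redC M (((ζ h : ℂˣ) : ℂ) ^ i) :=
    redC_sum fun i _ => memLocalRing_pow hr i
  rw [h5, redC_zero, Finset.sum_congr rfl fun i _ => by rw [redC_pow hr, h1, one_pow]] at h6
  rw [Finset.sum_const, Finset.card_range, nsmul_eq_mul, mul_one] at h6
  have := charP_resField hM
  exact hpk ((CharP.cast_eq_zero_iff (ResField M) p k).1 h6.symm)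

theorem pprime_comp {G' : Type*} [Group G'] {ζ : G →* ℂˣ} (hζ : PPrime p ζ) (f : G' →* G) :
    PPrime p (ζ.comp f) := by
  obtain ⟨k, hk, hpk, h2⟩ := hζ
  exact ⟨k, hk, hpk, fun g => h2 (f g)⟩

/-- a linear character of order prime to `p` is trivial on `p`-elements -/
theorem map_eq_one_of_orderOf (hp : p.Prime) {ζ : G →* ℂˣ} (hζ : PPrime p ζ) {u : G}
    (hu : ∃ a : ℕ, orderOf u = p ^ a) : ζ u = 1 := by
  obtain ⟨k, hk, hpk, h2⟩ := hζ
  obtain ⟨a, ha⟩ := hu
  have h3 : orderOf (ζ u) ∣ k := orderOf_dvd_of_pow_eq_one (h2 u)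
  have h4 : orderOf (ζ u) ∣ p ^ a := ha ▸ orderOf_map_dvd ζ u
  have h5 : Nat.Coprime k (p ^ a) := Nat.Coprime.pow_right _ ((hp.coprime_iff_not_dvd.2 hpk).symm)
  have h6 : orderOf (ζ u) = 1 := Nat.eq_one_of_dvd_coprimes h5 h3 h4
  exact orderOf_eq_one_iff.1 h6

end Basic

section Tw

variable {G : Type*} [Group G] {p : ℕ} {M : Ideal AlgInt} [M.IsPrime]

theorem eq_one_of_coeff_ne (hM : IsPModular p M) {ζ : G →* ℂˣ} (hζ : PPrime p ζ)
    {z : MonoidAlgebra (ResField M) G} (hz : IsTw ζ z) {g h : G} (hg : z.coeff g ≠ 0)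
    (hh : h * g = g * h) : ζ h = 1 := by
  refine eq_one_of_redC hM hζ ?_
  have h1 := hz h g
  rw [hh, mul_inv_cancel_right] at h1
  exact mul_right_cancel₀ hg (h1.symm.trans (one_mul _).symm)

theorem centralizer_le_of_coeff_ne (hM : IsPModular p M) {ζ : G →* ℂˣ} (hζ : PPrime p ζ)
    {z : MonoidAlgebra (ResField M) G} (hz : IsTw ζ z) {g : G} (hg : z.coeff g ≠ 0) :
    Subgroup.centralizer ({g} : Set G) ≤ ζ.ker := by
  intro h hh
  rw [Subgroup.mem_centralizer_singleton_iff] at hh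
  exact MonoidHom.mem_ker.2 (eq_one_of_coeff_ne hM hζ hz hg hh)

variable [Finite G]

/-- equivariant elements commute -/
theorem isTw_comm (hM : IsPModular p M) {ζ : G →* ℂˣ} (hζ : PPrime p ζ)
    {z z' : MonoidAlgebra (ResField M) G} (hz : IsTw ζ z) (hz' : IsTw ζ z') :
    z * z' = z' * z := by
  have := Fintype.ofFinite G
  refine ext_coeff fun g => ?_
  rw [coeff_mul_eq_sum, coeff_mul_eq_sum]
  refine Finset.sum_bij' (fun a _ => g * a⁻¹) (fun b _ => b⁻¹ * g) (fun _ _ => Finset.mem_univ _)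
    (fun _ _ => Finset.mem_univ _) (fun a _ => by group) (fun b _ => by group) fun a _ => ?_
  have h0 : (g * a⁻¹)⁻¹ * g = a := by group
  rw [h0, mul_comm]
  by_cases ha : z.coeff a = 0
  · rw [ha, mul_zero, mul_zero]
  · have h1 := hz' a (a⁻¹ * g)
    rw [eq_one_of_coeff_ne hM hζ hz ha rfl, Units.val_one, redC_one, one_mul,
      mul_inv_cancel_left] at h1
    rw [h1]

theorem coeff_tw_of_not {ζ : G →* ℂˣ} {x y : G} (h : ¬ IsConj x y) : (tw M ζ x).coeff y = 0 := by
  classical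
  rw [tw, coeff_mkA, dif_neg]
  rwa [isConj_iff] at h

theorem coeff_tw_of_isConj {ζ : G →* ℂˣ} {x y : G} (h : IsConj x y) :
    ∃ a : G, a * x * a⁻¹ = y ∧ (tw M ζ x).coeff y = redC M (ζ a : ℂ) := by
  classical
  rw [isConj_iff] at h
  refine ⟨h.choose, h.choose_spec, ?_⟩
  rw [tw, coeff_mkA, dif_pos h]

/-- W1a -/
theorem isTw_tw {ζ : G →* ℂˣ} (hζ : PPrime p ζ) {x : G}
    (hx : Subgroup.centralizer ({x} : Set G) ≤ ζ.ker) : IsTw (M := M) ζ (tw M ζ x) := by
  intro h g
  by_cases hg : IsConj x g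
  · obtain ⟨a, ha, h1⟩ := coeff_tw_of_isConj (M := M) (ζ := ζ) hg
    have hg' : IsConj x (h * g * h⁻¹) := hg.trans (isConj_iff.2 ⟨h, rfl⟩)
    obtain ⟨b, hb, h2⟩ := coeff_tw_of_isConj (M := M) (ζ := ζ) hg'
    rw [h1, h2, ← redC_map_mul hζ]
    have h3 : ζ ((h * a)⁻¹ * b) = 1 := by
      refine MonoidHom.mem_ker.1 (hx ?_)
      rw [Subgroup.mem_centralizer_singleton_iff]
      have h4 : b * x * b⁻¹ = (h * a) * x * (h * a)⁻¹ := by
        rw [hb, ← ha]
        group
      calc (h * a)⁻¹ * b * x = (h * a)⁻¹ * (b * x * b⁻¹) * b := by group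
        _ = _ := by rw [h4]; group
    rw [map_mul, map_inv, inv_mul_eq_one] at h3
    rw [← h3]
  · have hg' : ¬ IsConj x (h * g * h⁻¹) := fun h1 =>
      hg (h1.trans (isConj_iff.2 ⟨h⁻¹, by group⟩))
    rw [coeff_tw_of_not hg, coeff_tw_of_not hg', mul_zero]

theorem coeff_tw_self {ζ : G →* ℂˣ} {x : G}
    (hx : Subgroup.centralizer ({x} : Set G) ≤ ζ.ker) : (tw M ζ x).coeff x = 1 := by
  obtain ⟨a, ha, h1⟩ := coeff_tw_of_isConj (M := M) (ζ := ζ) (IsConj.refl x)
  rw [h1]
  have h2 : ζ a = 1 := by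
    refine MonoidHom.mem_ker.1 (hx ?_)
    rw [Subgroup.mem_centralizer_singleton_iff]
    exact mul_inv_eq_iff_eq_mul.1 ha
  rw [h2, Units.val_one, redC_one]

open Classical in
/-- the part on a conjugacy class -/
noncomputable def part (z : MonoidAlgebra (ResField M) G) (c : ConjClasses G) :
    MonoidAlgebra (ResField M) G := mkA fun g => if ConjClasses.mk g = c then z.coeff g else 0

open Classical in
theorem coeff_part (z : MonoidAlgebra (ResField M) G) (c : ConjClasses G) (g : G) :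
    (part z c).coeff g = if ConjClasses.mk g = c then z.coeff g else 0 := by
  rw [part, coeff_mkA]

theorem sum_part [Fintype (ConjClasses G)] (z : MonoidAlgebra (ResField M) G) :
    ∑ c : ConjClasses G, part z c = z := by
  classical
  refine ext_coeff fun g => ?_
  rw [MonoidAlgebra.coeff_sum, Finsupp.finsetSum_apply,
    Finset.sum_eq_single (ConjClasses.mk g)]
  · rw [coeff_part, if_pos rfl]
  · intro c _ hc
    rw [coeff_part, if_neg fun h => hc h.symm]
  · exact fun h => absurd (Finset.mem_univ _) h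

theorem isTw_part {ζ : G →* ℂˣ} {z : MonoidAlgebra (ResField M) G} (hz : IsTw ζ z)
    (c : ConjClasses G) : IsTw ζ (part z c) := by
  classical
  intro h g
  have h1 : ConjClasses.mk (h * g * h⁻¹) = ConjClasses.mk g :=
    ConjClasses.mk_eq_mk_iff_isConj.2 (isConj_iff.2 ⟨h⁻¹, by group⟩)
  rw [coeff_part, coeff_part, h1]
  split_ifs
  · exact hz h g
  · rw [mul_zero]

end Tw

section Outer

variable {K : Type*} [Field K] {X₁ X₂ : Type*} [Group X₁] [Finite X₁] [Group X₂] [Finite X₂]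

/-- outer product of elements of group algebras -/
noncomputable def ot (s : MonoidAlgebra K X₁) (t : MonoidAlgebra K X₂) :
    MonoidAlgebra K (X₁ × X₂) := mkA fun g => s.coeff g.1 * t.coeff g.2

theorem coeff_ot (s : MonoidAlgebra K X₁) (t : MonoidAlgebra K X₂) (g : X₁ × X₂) :
    (ot s t).coeff g = s.coeff g.1 * t.coeff g.2 := by
  rw [ot, coeff_mkA]

theorem ot_mul (s s' : MonoidAlgebra K X₁) (t t' : MonoidAlgebra K X₂) :
    ot s t * ot s' t' = ot (s * s') (t * t') := by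
  have := Fintype.ofFinite X₁
  have := Fintype.ofFinite X₂
  refine ext_coeff fun g => ?_
  rw [coeff_mul_eq_sum, coeff_ot, coeff_mul_eq_sum, coeff_mul_eq_sum, Finset.sum_mul_sum,
    Fintype.sum_prod_type]
  refine Finset.sum_congr rfl fun a _ => Finset.sum_congr rfl fun b _ => ?_
  rw [coeff_ot, coeff_ot]
  change s.coeff a * t.coeff b * (s'.coeff (a⁻¹ * g.1) * t'.coeff (b⁻¹ * g.2)) = _
  ring

theorem ot_one : ot (1 : MonoidAlgebra K X₁) (1 : MonoidAlgebra K X₂) = 1 := by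
  classical
  refine ext_coeff fun g => ?_
  rw [coeff_ot, coeff_one_eq, coeff_one_eq, coeff_one_eq, ite_mul, one_mul, zero_mul, ← ite_and]
  exact if_congr (Prod.ext_iff (x := g) (y := 1)).symm rfl rfl

theorem ot_pow (s : MonoidAlgebra K X₁) (t : MonoidAlgebra K X₂) (n : ℕ) :
    ot s t ^ n = ot (s ^ n) (t ^ n) := by
  induction n with
  | zero => rw [pow_zero, pow_zero, pow_zero, ot_one]
  | succ n ih => rw [pow_succ, ih, ot_mul, ← pow_succ, ← pow_succ]

theorem ot_eq_zero {s : MonoidAlgebra K X₁} {t : MonoidAlgebra K X₂} (h : ot s t = 0) :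
    s = 0 ∨ t = 0 := by
  by_contra hcon
  push Not at hcon
  obtain ⟨h1, h2⟩ := hcon
  have h3 : ∃ a, s.coeff a ≠ 0 := by
    by_contra h4
    push Not at h4
    exact h1 (ext_coeff fun g => by rw [h4]; rfl)
  have h4 : ∃ a, t.coeff a ≠ 0 := by
    by_contra h4
    push Not at h4
    exact h2 (ext_coeff fun g => by rw [h4]; rfl)
  obtain ⟨a, ha⟩ := h3
  obtain ⟨b, hb⟩ := h4
  have h5 := congrArg (fun z => z.coeff (a, b)) h
  simp only [coeff_ot] at h5
  exact mul_ne_zero ha hb h5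

theorem ot_zero_left (t : MonoidAlgebra K X₂) : ot (0 : MonoidAlgebra K X₁) t = 0 :=
  ext_coeff fun g => by
    rw [coeff_ot]
    exact zero_mul _

theorem ot_zero_right (s : MonoidAlgebra K X₁) : ot s (0 : MonoidAlgebra K X₂) = 0 :=
  ext_coeff fun g => by
    rw [coeff_ot]
    exact mul_zero _

theorem isNilpotent_ot {s : MonoidAlgebra K X₁} {t : MonoidAlgebra K X₂} :
    IsNilpotent (ot s t) ↔ IsNilpotent s ∨ IsNilpotent t := by
  constructor
  · rintro ⟨n, hn⟩
    rw [ot_pow] at hn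
    rcases ot_eq_zero hn with h | h
    · exact Or.inl ⟨n, h⟩
    · exact Or.inr ⟨n, h⟩
  · rintro (⟨n, hn⟩ | ⟨n, hn⟩)
    · exact ⟨n, by rw [ot_pow, hn, ot_zero_left]⟩
    · exact ⟨n, by rw [ot_pow, hn, ot_zero_right]⟩

theorem isCls_ot {s : MonoidAlgebra K X₁} {t : MonoidAlgebra K X₂} (hs : IsCls s)
    (ht : IsCls t) : IsCls (ot s t) := by
  intro g h
  rw [coeff_ot, coeff_ot]
  exact congrArg₂ (· * ·) (hs g.1 h.1) (ht g.2 h.2)

theorem isNilpotent_smul_iff {G : Type*} [Group G] {c : K} (hc : c ≠ 0)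
    {x : MonoidAlgebra K G} : IsNilpotent (c • x) ↔ IsNilpotent x := by
  constructor
  · rintro ⟨n, hn⟩
    refine ⟨n, ?_⟩
    rw [smul_pow] at hn
    exact (smul_eq_zero.1 hn).resolve_left (pow_ne_zero n hc)
  · rintro ⟨n, hn⟩
    exact ⟨n, by rw [smul_pow, hn, smul_zero]⟩

end Outer

section Transport

variable {K : Type*} [Field K] {X : Type*} [Group X] [Finite X] {G : Type*} [Group G] [Finite G]

theorem coeff_mul_equiv {C : Type*} [Group C] [Finite C] (φ : X ≃* C) {y y' : MonoidAlgebra K C}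
    {t t' : MonoidAlgebra K X} (h : ∀ x, t.coeff x = y.coeff (φ x))
    (h' : ∀ x, t'.coeff x = y'.coeff (φ x)) (x : X) :
    (t * t').coeff x = (y * y').coeff (φ x) := by
  have := Fintype.ofFinite X
  have := Fintype.ofFinite C
  rw [coeff_mul_eq_sum, coeff_mul_eq_sum, ← Equiv.sum_comp φ.toEquiv]
  refine Finset.sum_congr rfl fun a _ => ?_
  change _ = y.coeff (φ a) * y'.coeff ((φ a)⁻¹ * φ x)
  rw [← map_inv, ← map_mul, h, h']

/-- restriction of the coefficients along a homomorphism -/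
noncomputable def rs (j : X →* G) (z : MonoidAlgebra K G) : MonoidAlgebra K X :=
  mkA fun x => z.coeff (j x)

theorem coeff_rs (j : X →* G) (z : MonoidAlgebra K G) (x : X) :
    (rs j z).coeff x = z.coeff (j x) := by
  rw [rs, coeff_mkA]

/-- the isomorphism onto the image -/
noncomputable def onto (j : X →* G) (hj : Function.Injective j) (C : Subgroup G)
    (hr : j.range = C) : X ≃* C :=
  (MonoidHom.ofInjective hj).trans (MulEquiv.subgroupCongr hr)

theorem coe_onto (j : X →* G) (hj : Function.Injective j) (C : Subgroup G)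
    (hr : j.range = C) (x : X) : ((onto j hj C hr x : C) : G) = j x := rfl

theorem res_mul {p : ℕ} [CharP K p] [Fact p.Prime] {P : Subgroup G} (hP : IsPGroup p P)
    {C : Subgroup G} (hC : C = Subgroup.centralizer (P : Set G)) {x y : MonoidAlgebra K G}
    (hx : IsInv P x) (hy : IsInv P y) : res C (x * y) = res C x * res C y := by
  subst hC
  exact br_mul hP hx hy

theorem rs_mul {p : ℕ} [CharP K p] [Fact p.Prime] {P : Subgroup G} (hP : IsPGroup p P)
    (j : X →* G) (hj : Function.Injective j) {C : Subgroup G} (hr : j.range = C)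
    (hC : C = Subgroup.centralizer (P : Set G)) {x y : MonoidAlgebra K G}
    (hx : IsInv P x) (hy : IsInv P y) : rs j (x * y) = rs j x * rs j y := by
  refine ext_coeff fun g => ?_
  rw [coeff_mul_equiv (onto j hj C hr) (y := res C x) (y' := res C y)
    (fun a => by rw [coeff_rs, coeff_res, coe_onto]) (fun a => by rw [coeff_rs, coeff_res, coe_onto]),
    ← res_mul hP hC hx hy, coeff_rs, coeff_res, coe_onto]

theorem rs_one (j : X →* G) (hj : Function.Injective j) : rs j (1 : MonoidAlgebra K G) = 1 := by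
  classical
  refine ext_coeff fun g => ?_
  rw [coeff_rs, coeff_one_eq, coeff_one_eq]
  exact if_congr ⟨fun h => hj (h.trans (map_one j).symm), fun h => by rw [h, map_one]⟩ rfl rfl

theorem isInv_pow {S : Subgroup G} {x : MonoidAlgebra K G} (hx : IsInv S x) (n : ℕ) :
    IsInv S (x ^ n) := by
  induction n with
  | zero => rw [pow_zero]; exact isInv_one S
  | succ n ih => rw [pow_succ]; exact isInv_mul ih hx

theorem rs_pow {p : ℕ} [CharP K p] [Fact p.Prime] {P : Subgroup G} (hP : IsPGroup p P)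
    (j : X →* G) (hj : Function.Injective j) {C : Subgroup G} (hr : j.range = C)
    (hC : C = Subgroup.centralizer (P : Set G)) {x : MonoidAlgebra K G}
    (hx : IsInv P x) (n : ℕ) : rs j (x ^ n) = rs j x ^ n := by
  induction n with
  | zero => rw [pow_zero, pow_zero, rs_one j hj]
  | succ n ih => rw [pow_succ, pow_succ, rs_mul hP j hj hr hC (isInv_pow hx n) hx, ih]

end Transport

section ProdBlk

variable {X₁ X₂ G : Type*} [Group X₁] [Finite X₁] [Group X₂] [Finite X₂] [Group G] [Finite G]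

/-- the outer product of irreducible characters, transported to a subgroup -/
noncomputable def outer (C : Subgroup G) (φ : X₁ × X₂ ≃* C)
    (χ : IrrCharacter X₁ × IrrCharacter X₂) : IrrCharacter C :=
  irrMap φ ⟨fun x => (χ.1 : X₁ → ℂ) x.1 * (χ.2 : X₂ → ℂ) x.2,
    Cfsg.Agent.S0188.isIrr_outer χ.1.2 χ.2.2⟩

theorem outer_apply (C : Subgroup G) (φ : X₁ × X₂ ≃* C)
    (χ : IrrCharacter X₁ × IrrCharacter X₂) (x : X₁ × X₂) :
    (outer C φ χ : C → ℂ) (φ x) = (χ.1 : X₁ → ℂ) x.1 * (χ.2 : X₂ → ℂ) x.2 := by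
  rw [outer, irrMap_apply_map]

theorem outer_injective (C : Subgroup G) (φ : X₁ × X₂ ≃* C) : Function.Injective (outer C φ) := by
  classical
  have := Fintype.ofFinite X₁
  have := Fintype.ofFinite X₂
  rintro ⟨χ, ψ⟩ ⟨χ', ψ'⟩ h
  have h1 : ∀ x : X₁ × X₂, (χ : X₁ → ℂ) x.1 * (ψ : X₂ → ℂ) x.2 =
      (χ' : X₁ → ℂ) x.1 * (ψ' : X₂ → ℂ) x.2 := by
    intro x
    have h2 := outer_apply C φ (χ, ψ) x
    rw [h, outer_apply] at h2
    exact h2.symm
  have h2 : χ = χ' := by
    by_contra hne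
    have h3 := classInner_irr_self (Cfsg.Agent.S0188.isIrr_outer χ'.2 ψ'.2)
    have h4 : (fun x : X₁ × X₂ => (χ' : X₁ → ℂ) x.1 * (ψ' : X₂ → ℂ) x.2) =
        fun x : X₁ × X₂ => (χ : X₁ → ℂ) x.1 * (ψ : X₂ → ℂ) x.2 := by
      funext x
      exact (h1 x).symm
    rw [Cfsg.Agent.S0188.classInner_outer] at h3
    have h5 : (fun h : X₂ => classInner (fun g : X₁ => (χ' : X₁ → ℂ) (g, h).1 *
        (ψ' : X₂ → ℂ) (g, h).2) (χ' : X₁ → ℂ)) = 0 := by
      funext h
      have h6 : (fun g : X₁ => (χ' : X₁ → ℂ) (g, h).1 * (ψ' : X₂ → ℂ) (g, h).2) =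
          (ψ : X₂ → ℂ) h • (χ : X₁ → ℂ) := by
        funext g
        rw [← h1 (g, h), Pi.smul_apply, smul_eq_mul, mul_comm]
      rw [h6, classInner_smul_left, classInner_irr_ne χ.2 χ'.2 (fun h7 => hne (Subtype.ext h7)),
        mul_zero]
      rfl
    rw [h5, classInner_zero_left] at h3
    exact zero_ne_one h3
  subst h2
  have h3 : ψ = ψ' := by
    apply Subtype.ext
    funext g
    have h4 := h1 (1, g)
    exact mul_left_cancel₀ (Cfsg.Agent.Blocks.CliffordCentral.irr_one_ne_zero χ) h4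
  rw [h3]

theorem prodBlk_eq (j : X₁ × X₂ →* G) (hj : Function.Injective j) (C : Subgroup G)
    (hr : j.range = C) (b₁ : Set (IrrCharacter X₁)) (b₂ : Set (IrrCharacter X₂)) :
    prodBlk C j b₁ b₂ = outer C (onto j hj C hr) '' (b₁ ×ˢ b₂) := by
  ext χ
  constructor
  · rintro ⟨χ₁, h₁, χ₂, h₂, h⟩
    refine ⟨(χ₁, χ₂), ⟨h₁, h₂⟩, Subtype.ext ?_⟩
    funext y
    obtain ⟨x, rfl⟩ := (onto j hj C hr).surjective y
    rw [outer_apply]
    exact (h x _ (coe_onto j hj C hr x).symm).symm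
  · rintro ⟨⟨χ₁, χ₂⟩, ⟨h₁, h₂⟩, rfl⟩
    refine ⟨χ₁, h₁, χ₂, h₂, fun x y hxy => ?_⟩
    have h3 : y = onto j hj C hr x := Subtype.ext (hxy.symm.trans (coe_onto j hj C hr x).symm)
    rw [h3, outer_apply]

theorem blockCoeff_prodBlk (j : X₁ × X₂ →* G) (hj : Function.Injective j) (C : Subgroup G)
    (hr : j.range = C) (b₁ : Set (IrrCharacter X₁)) (b₂ : Set (IrrCharacter X₂))
    (x : X₁ × X₂) : blockCoeff (prodBlk C j b₁ b₂) (onto j hj C hr x) =
      blockCoeff b₁ x.1 * blockCoeff b₂ x.2 := by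
  classical
  have f1 : Finite (IrrCharacter X₁) := finite_irr
  have f2 : Finite (IrrCharacter X₂) := finite_irr
  have := Fintype.ofFinite (IrrCharacter X₁)
  have := Fintype.ofFinite (IrrCharacter X₂)
  rw [Cfsg.Agent.Blocks.Basic.blockCoeff_def, Cfsg.Agent.Blocks.Basic.blockCoeff_def,
    Cfsg.Agent.Blocks.Basic.blockCoeff_def, prodBlk_eq j hj C hr,
    finsum_mem_image ((outer_injective C _).injOn)]
  have hcard : Nat.card C = Nat.card X₁ * Nat.card X₂ := by
    rw [← Nat.card_congr (onto j hj C hr).toEquiv, Nat.card_prod]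
  have h1 : (∑ᶠ (χ : IrrCharacter X₁ × IrrCharacter X₂) (_ : χ ∈ b₁ ×ˢ b₂),
      (outer C (onto j hj C hr) χ : C → ℂ) 1 * (starRingEnd ℂ)
        ((outer C (onto j hj C hr) χ : C → ℂ) (onto j hj C hr x))) =
      (∑ᶠ χ ∈ b₁, (χ : X₁ → ℂ) 1 * (starRingEnd ℂ) ((χ : X₁ → ℂ) x.1)) *
      (∑ᶠ χ ∈ b₂, (χ : X₂ → ℂ) 1 * (starRingEnd ℂ) ((χ : X₂ → ℂ) x.2)) := by
    rw [finsum_mem_eq_toFinset_sum, finsum_mem_eq_toFinset_sum, finsum_mem_eq_toFinset_sum,
      Set.toFinset_prod, Finset.sum_product, Finset.sum_mul_sum]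
    refine Finset.sum_congr rfl fun χ _ => Finset.sum_congr rfl fun ψ _ => ?_
    rw [outer_apply, ← map_one (onto j hj C hr), outer_apply]
    simp only [Prod.fst_one, Prod.snd_one, map_mul]
    ring
  rw [h1, hcard]
  push_cast
  rw [mul_inv]
  ring

variable {p : ℕ} {M : Ideal AlgInt} [M.IsPrime]

theorem coeff_idem_prodBlk (hM : IsPModular p M) (j : X₁ × X₂ →* G) (hj : Function.Injective j)
    (C : Subgroup G) (hr : j.range = C) {b₁ : Set (IrrCharacter X₁)} {b₂ : Set (IrrCharacter X₂)}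
    (hb₁ : IsPBlock M b₁) (hb₂ : IsPBlock M b₂) (x : X₁ × X₂) :
    (ot (idem M b₁) (idem M b₂)).coeff x =
      (idem M (prodBlk C j b₁ b₂)).coeff (onto j hj C hr x) := by
  rw [coeff_ot, coeff_idem, coeff_idem, coeff_idem, blockCoeff_prodBlk,
    redC_mul (memLocalRing_blockCoeff hM (isUnion_of_isPBlock hb₁) _)
      (memLocalRing_blockCoeff hM (isUnion_of_isPBlock hb₂) _)]

end ProdBlk

section Main

variable {G : Type*} [Group G] [Finite G] {p : ℕ} {M : Ideal AlgInt} [M.IsPrime]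

theorem isInv_tw {ζ : G →* ℂˣ} {z : MonoidAlgebra (ResField M) G} (hz : IsTw ζ z)
    {P : Subgroup G} (hP : ∀ u ∈ P, ζ u = 1) : IsInv P z := by
  intro u hu g
  rw [hz u g, hP u hu, Units.val_one, redC_one, one_mul]

theorem isNilpotent_of_sum {R ι : Type*} [Ring R] {s : Finset ι} {f : ι → R}
    (hc : ∀ i j, f i * f j = f j * f i) {i₀ : ι} (hi₀ : i₀ ∈ s)
    (h : IsNilpotent (∑ i ∈ s, f i)) (h' : ∀ i ∈ s, i ≠ i₀ → IsNilpotent (f i)) :
    IsNilpotent (f i₀) := by
  classical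
  have h1 : f i₀ = (∑ i ∈ s, f i) - ∑ i ∈ s.erase i₀, f i := by
    rw [← Finset.add_sum_erase s f hi₀, add_sub_cancel_right]
  rw [h1]
  refine Commute.isNilpotent_sub ?_ h ?_
  · refine Commute.sum_left _ _ _ fun i _ => Commute.sum_right _ _ _ fun k _ => hc i k
  · refine Commute.isNilpotent_sum (fun i hi => h' i (Finset.mem_of_mem_erase hi)
      (Finset.ne_of_mem_erase hi)) fun i k _ _ => hc i k

/-- W3 -/
theorem nz_step {X₁ X₂ : Type*} [Group X₁] [Finite X₁] [Group X₂] [Finite X₂]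
    (hM : IsPModular p M) {ζ : G →* ℂˣ} (hζ : PPrime p ζ)
    (j : X₁ × X₂ →* G) (hj : Function.Injective j) (u : G) (hu : ∃ a : ℕ, orderOf u = p ^ a)
    (hr : j.range = Subgroup.centralizer ({u} : Set G))
    {b₁ : Set (IrrCharacter X₁)} {b₂ : Set (IrrCharacter X₂)} {B : Set (IrrCharacter G)}
    (hb₁ : IsPBlock M b₁) (hb₂ : IsPBlock M b₂)
    (hind : IsInducedBlock M (Subgroup.centralizer ({u} : Set G))
      (prodBlk (Subgroup.centralizer ({u} : Set G)) j b₁ b₂) B)
    (x₁ : X₁) (x₂ : X₂)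
    (h₁ : Nz M (ζ.comp (j.comp (MonoidHom.inl X₁ X₂))) b₁ x₁)
    (h₂ : Nz M (ζ.comp (j.comp (MonoidHom.inr X₁ X₂))) b₂ x₂)
    (hc : Subgroup.centralizer ({j (x₁, x₂)} : Set G) ≤ ζ.ker)
    (huniq : ∀ y₁ y₂, Nz M (ζ.comp (j.comp (MonoidHom.inl X₁ X₂))) b₁ y₁ →
      Nz M (ζ.comp (j.comp (MonoidHom.inr X₁ X₂))) b₂ y₂ → IsConj (j (y₁, y₂)) (j (x₁, x₂)) →
      IsConj y₁ x₁ ∧ IsConj y₂ x₂) :
    Nz M ζ B (j (x₁, x₂)) := by
  classical
  have : Fact p.Prime := ⟨hM.1⟩
  have := charP_resField hM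
  refine ⟨hc, fun hnil => ?_⟩
  -- the `p`-group generated by `u`
  set P : Subgroup G := Subgroup.zpowers u with hPdef
  have hP : IsPGroup p P := by
    obtain ⟨a, ha⟩ := hu
    exact IsPGroup.of_card (n := a) (by rw [hPdef, Nat.card_zpowers, ha])
  set C : Subgroup G := Subgroup.centralizer ({u} : Set G) with hCdef
  have hCP : C = Subgroup.centralizer (P : Set G) := by
    ext g
    rw [hCdef, hPdef, Subgroup.mem_centralizer_singleton_iff, Subgroup.mem_centralizer_iff]
    constructor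
    · rintro h _ ⟨n, rfl⟩
      exact (Commute.zpow_right (h : Commute g u) n).eq.symm
    · intro h
      exact (h u (Subgroup.mem_zpowers u)).symm
  have hζu : ∀ v ∈ P, ζ v = 1 := by
    rintro _ ⟨n, rfl⟩
    change ζ (u ^ n) = 1
    rw [map_zpow, map_eq_one_of_orderOf hM.1 hζ hu, one_zpow]
  -- the element of the group algebra
  set T := tw M ζ (j (x₁, x₂)) with hT
  have hTw : IsTw ζ T := isTw_tw hζ hc
  have hTinv : IsInv P T := isInv_tw hTw hζu
  have hU : IsUnion M B := isUnion_of_isPBlock hind.2.1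
  have heB := isCls_idem (M := M) B
  set φ := onto j hj C hr with hφ
  -- `e` is the idempotent of the product block
  set e := ot (idem M b₁) (idem M b₂) with he
  have hecls : IsCls e := isCls_ot (isCls_idem b₁) (isCls_idem b₂)
  have hee : e * e = e := by
    rw [he, ot_mul, idem_mul_self hM (isUnion_of_isPBlock hb₁),
      idem_mul_self hM (isUnion_of_isPBlock hb₂)]
  have heB' : e * rs j (idem M B) = e := by
    rw [isInducedBlock_iff] at hind
    obtain ⟨hb, hB, hlam⟩ := hind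
    have h1 : res C (idem M B) * idem M (prodBlk C j b₁ b₂) = idem M (prodBlk C j b₁ b₂) := by
      refine mul_idem_of_lam_eq_one hM (isCls_res (isInv_of_isCls heB C)) ?_
        (isUnion_of_isPBlock hb) fun ξ hξ => ?_
      · rw [← res_mul hP hCP (isInv_of_isCls heB P) (isInv_of_isCls heB P), idem_mul_self hM hU]
      · obtain ⟨χ, hχ⟩ := Cfsg.Agent.Blocks.Basic.isPBlock_nonempty hB
        rw [hlam ξ hξ χ hχ _ heB, lam_idem_of_mem hM hU hχ]
    have h2 : idem M (prodBlk C j b₁ b₂) * res C (idem M B) = idem M (prodBlk C j b₁ b₂) := by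
      rw [isCls_comm (isCls_idem _), h1]
    refine ext_coeff fun x => ?_
    rw [coeff_mul_equiv φ (coeff_idem_prodBlk hM j hj C hr hb₁ hb₂)
      (y' := res C (idem M B)) (fun a => by rw [coeff_rs, coeff_res, hφ, coe_onto]), h2,
      ← coeff_idem_prodBlk hM j hj C hr hb₁ hb₂]
  set w := rs j T with hw
  -- `e * w` is nilpotent
  have hew : IsNilpotent (e * w) := by
    obtain ⟨n, hn⟩ := hnil
    have h1 : idem M B * T ^ (n + 1) = 0 := by
      have h2 : (idem M B * T) ^ (n + 1) = 0 := by rw [pow_succ, hn, zero_mul]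
      have hcomm : Commute (idem M B) T := isCls_comm heB T
      rw [hcomm.mul_pow] at h2
      have h3 : ∀ m : ℕ, idem M B ^ (m + 1) = idem M B := by
        intro m
        induction m with
        | zero => rw [zero_add, pow_one]
        | succ m ih => rw [pow_succ, ih, idem_mul_self hM hU]
      rwa [h3] at h2
    have h2 : rs j (idem M B) * w ^ (n + 1) = 0 := by
      rw [hw, ← rs_pow hP j hj hr hCP hTinv, ← rs_mul hP j hj hr hCP (isInv_of_isCls heB P)
        (isInv_pow hTinv _), h1]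
      exact ext_coeff fun g => by rw [coeff_rs]; rfl
    refine ⟨n + 1, ?_⟩
    have hcomm : Commute e w := isCls_comm hecls w
    have h3 : ∀ m : ℕ, e ^ (m + 1) = e := by
      intro m
      induction m with
      | zero => rw [zero_add, pow_one]
      | succ m ih => rw [pow_succ, ih, hee]
    rw [hcomm.mul_pow, h3, ← heB', mul_assoc, h2, mul_zero]
  -- equivariance
  set ζ₁ := ζ.comp (j.comp (MonoidHom.inl X₁ X₂)) with hζ₁
  set ζ₂ := ζ.comp (j.comp (MonoidHom.inr X₁ X₂)) with hζ₂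
  have hζj : PPrime p (ζ.comp j) := pprime_comp hζ j
  have hζsplit : ∀ a : X₁ × X₂, (ζ.comp j) a = ζ₁ a.1 * ζ₂ a.2 := by
    intro a
    rw [hζ₁, hζ₂]
    change ζ (j a) = ζ (j (a.1, 1)) * ζ (j (1, a.2))
    rw [← map_mul, ← map_mul, Prod.mk_mul_mk, one_mul, mul_one]
  have hwTw : IsTw (ζ.comp j) w := by
    intro h g
    have h3 : j (h * g * h⁻¹) = j h * j g * (j h)⁻¹ := by rw [map_mul, map_mul, map_inv]
    rw [hw, coeff_rs, coeff_rs, h3]
    exact hTw (j h) (j g)
  have hp₁ : PPrime p ζ₁ := pprime_comp hζ _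
  have hp₂ : PPrime p ζ₂ := pprime_comp hζ _
  -- the parts
  have hpart : ∀ y : X₁ × X₂, part w (ConjClasses.mk y) =
      w.coeff y • ot (tw M ζ₁ y.1) (tw M ζ₂ y.2) := by
    intro y
    refine ext_coeff fun g => ?_
    rw [coeff_part, MonoidAlgebra.coeff_smul, Finsupp.smul_apply, coeff_ot, smul_eq_mul]
    split_ifs with h
    · have h3 : IsConj y g := ConjClasses.mk_eq_mk_iff_isConj.1 h.symm
      obtain ⟨d, hd⟩ := isConj_iff.1 h3
      obtain ⟨a, ha, h4⟩ := coeff_tw_of_isConj (M := M) (ζ := ζ₁) (x := y.1) (y := g.1)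
        (isConj_iff.2 ⟨d.1, congrArg Prod.fst hd⟩)
      obtain ⟨b, hb, h5⟩ := coeff_tw_of_isConj (M := M) (ζ := ζ₂) (x := y.2) (y := g.2)
        (isConj_iff.2 ⟨d.2, congrArg Prod.snd hd⟩)
      have h6 : g = (a, b) * y * (a, b)⁻¹ := Prod.ext ha.symm hb.symm
      rw [h4, h5, h6, hwTw (a, b) y, hζsplit (a, b), Units.val_mul,
        redC_mul (mem_ring hp₁ a) (mem_ring hp₂ b), mul_comm]
    · by_cases h3 : IsConj y.1 g.1
      · have h4 : ¬ IsConj y.2 g.2 := by
          intro h4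
          apply h
          obtain ⟨a, ha⟩ := isConj_iff.1 h3
          obtain ⟨b, hb⟩ := isConj_iff.1 h4
          exact (ConjClasses.mk_eq_mk_iff_isConj.2 (isConj_iff.2 ⟨(a, b), Prod.ext ha hb⟩)).symm
        rw [coeff_tw_of_not h4, mul_zero, mul_zero]
      · rw [coeff_tw_of_not h3, zero_mul, mul_zero]
  have hmul : ∀ y : X₁ × X₂, e * part w (ConjClasses.mk y) =
      w.coeff y • ot (idem M b₁ * tw M ζ₁ y.1) (idem M b₂ * tw M ζ₂ y.2) := by
    intro y
    rw [hpart, mul_smul_comm, he, ot_mul]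
  -- the sum
  have := Fintype.ofFinite (ConjClasses (X₁ × X₂))
  have hsum : ∑ c : ConjClasses (X₁ × X₂), e * part w c = e * w := by
    rw [← Finset.mul_sum, sum_part]
  have hcomm : ∀ c d : ConjClasses (X₁ × X₂),
      (e * part w c) * (e * part w d) = (e * part w d) * (e * part w c) := by
    intro c d
    have h3 := isTw_comm hM hζj (isTw_part hwTw c) (isTw_part hwTw d)
    have h4 : Commute e (part w c) := isCls_comm hecls _
    have h5 : Commute e (part w d) := isCls_comm hecls _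
    have h6 : Commute (part w c) (part w d) := h3
    exact ((Commute.refl e).mul_left h4.symm |>.mul_right (h5.mul_left h6)).eq
  have hfin := isNilpotent_of_sum (s := Finset.univ) (f := fun c => e * part w c) hcomm
    (i₀ := ConjClasses.mk (x₁, x₂)) (Finset.mem_univ _) (by rw [hsum]; exact hew) (by
      intro c _ hcne
      obtain ⟨y, rfl⟩ := ConjClasses.mk_surjective c
      change IsNilpotent (e * part w (ConjClasses.mk y))
      rw [hmul]
      by_cases hy : w.coeff y = 0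
      · rw [hy, zero_smul]
        exact IsNilpotent.zero
      · rw [isNilpotent_smul_iff hy, isNilpotent_ot]
        by_contra hcon
        push Not at hcon
        have hker := centralizer_le_of_coeff_ne hM hζj hwTw hy
        have k₁ : Subgroup.centralizer ({y.1} : Set X₁) ≤ ζ₁.ker := by
          intro a ha
          rw [Subgroup.mem_centralizer_singleton_iff] at ha
          exact hker (x := (a, 1)) (by
            rw [Subgroup.mem_centralizer_singleton_iff]
            exact Prod.ext ha (by simp))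
        have k₂ : Subgroup.centralizer ({y.2} : Set X₂) ≤ ζ₂.ker := by
          intro a ha
          rw [Subgroup.mem_centralizer_singleton_iff] at ha
          exact hker (x := (1, a)) (by
            rw [Subgroup.mem_centralizer_singleton_iff]
            exact Prod.ext (by simp) ha)
        have hconj : IsConj (j (y.1, y.2)) (j (x₁, x₂)) := by
          by_contra hn
          apply hy
          rw [hw, coeff_rs, hT]
          exact coeff_tw_of_not fun h => hn h.symm
        obtain ⟨c₁, c₂⟩ := huniq y.1 y.2 ⟨k₁, hcon.1⟩ ⟨k₂, hcon.2⟩ hconj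
        apply hcne
        obtain ⟨a, ha⟩ := isConj_iff.1 c₁
        obtain ⟨b, hb⟩ := isConj_iff.1 c₂
        exact ConjClasses.mk_eq_mk_iff_isConj.2 (isConj_iff.2 ⟨(a, b), Prod.ext ha hb⟩))
  rw [hmul] at hfin
  have hx1 : w.coeff (x₁, x₂) = 1 := by
    rw [hw, coeff_rs, hT]
    exact coeff_tw_self hc
  rw [hx1, one_smul, isNilpotent_ot] at hfin
  rcases hfin with h | h
  · exact h₁.2 h
  · exact h₂.2 h

end Main

end Cfsg.Agent.H466.Sl
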